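import Groth.Agent.H17.PointLocal
import Mathlib

/-!
A point of `G ⊗ G` over the generic point of an irreducible fibre under both projections and the multiplication.
-/

set_option autoImplicit false
set_option linter.style.haveILetI false
set_option backward.isDefEq.respectTransparency false

universe u

open CategoryTheory MonoidalCategory CartesianMonoidalCategory MonObj GrpObj AlgebraicGeometry
open CategoryTheory.Limits

namespace Groth.Agent.H21NormExt

variable {R : Scheme.{u}}

/-- the multiplication of a flat group is flat -/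
theorem flat_mul (G : Over R) [GrpObj G] [Flat G.hom] : Flat (fst G G * snd G G).left := by
  let σ : G ⊗ G ⟶ G ⊗ G := lift (fst G G) (fst G G * snd G G)
  let τ : G ⊗ G ⟶ G ⊗ G := lift (fst G G) ((fst G G)⁻¹ * snd G G)
  have h1 : σ ≫ τ = 𝟙 _ := by
    ext1
    · simp [σ, τ]
    · simp [σ, τ, MonObj.comp_mul, GrpObj.comp_inv]
  have h2 : τ ≫ σ = 𝟙 _ := by
    ext1
    · simp [σ, τ]
    · simp [σ, τ, MonObj.comp_mul]
  haveI : IsIso σ := ⟨τ, h1, h2⟩
  haveI : IsIso σ.left := inferInstanceAs (IsIso ((Over.forget _).map σ))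
  haveI : Flat (snd G G).left := inferInstanceAs (Flat (pullback.snd G.hom G.hom))
  rw [show fst G G * snd G G = σ ≫ snd G G from (lift_snd _ _).symm, Over.comp_left]
  infer_instance

theorem exists_common_point (G : Over R) [GrpObj G] [Flat G.hom] (ξ : G.left)
    (hmax : ∀ x, G.hom x = G.hom ξ → x ⤳ ξ → x = ξ)
    [IrreducibleSpace ↥(pullback G.hom (R.fromSpecResidueField (G.hom ξ)))] :
    ∃ ζ : (G ⊗ G).left, (fst G G).left ζ = ξ ∧ (snd G G).left ζ = ξ ∧ (fst G G * snd G G).left ζ = ξ := by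
  let r := G.hom ξ
  let j := pullback.fst G.hom (R.fromSpecResidueField r)
  have hj : Set.range j = {x | G.hom x = r} := by
    rw [Scheme.Pullback.range_fst, Scheme.range_fromSpecResidueField]
    rfl
  -- the generic point of the fibre is `ξ`
  have hgen : ∀ x, G.hom x = r → ξ ⤳ x := by
    let c := genericPoint ↥(pullback G.hom (R.fromSpecResidueField r))
    have hc : ∀ x, G.hom x = r → j c ⤳ x := by
      intro x hx
      obtain ⟨x', rfl⟩ : x ∈ Set.range j := hj ▸ hx
      exact (genericPoint_specializes x').map j.continuous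
    have hcr : G.hom (j c) = r := (show j c ∈ {x | G.hom x = r} from hj ▸ ⟨c, rfl⟩)
    rw [← hmax (j c) hcr (hc ξ rfl)]
    exact hc
  let P := G ⊗ G
  let j₂ := pullback.fst P.hom (R.fromSpecResidueField r)
  have hj₂ : Set.range j₂ = {x | P.hom x = r} := by
    rw [Scheme.Pullback.range_fst, Scheme.range_fromSpecResidueField]
    rfl
  obtain ⟨z₀, hz₀, -⟩ := Scheme.Pullback.exists_preimage_pullback (f := G.hom) (g := G.hom) ξ ξ rfl
  have hzr : P.hom z₀ = r := by
    change (pullback.fst G.hom G.hom ≫ G.hom) z₀ = r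
    rw [Scheme.Hom.comp_apply, hz₀]
  obtain ⟨z', hz'⟩ : z₀ ∈ Set.range j₂ := hj₂ ▸ hzr
  obtain ⟨c, hc, -⟩ := H17.exists_genericPoint_specializes z'
  refine ⟨j₂ c, ?_⟩
  have hζr : P.hom (j₂ c) = r := (show j₂ c ∈ {x | P.hom x = r} from hj₂ ▸ ⟨c, rfl⟩)
  have key : ∀ (f : P ⟶ G), Flat f.left → f.left (j₂ c) = ξ := by
    intro f hf
    have hfr : G.hom (f.left (j₂ c)) = r := by
      rw [← Scheme.Hom.comp_apply, Over.w f, hζr]
    obtain ⟨ζ', hζ', e⟩ := Flat.generalizingMap f.left (hgen _ hfr)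
    have hζ'r : P.hom ζ' = r := by
      rw [← Over.w f, Scheme.Hom.comp_apply, e]
    obtain ⟨c', hc'⟩ : ζ' ∈ Set.range j₂ := hj₂ ▸ hζ'r
    have hsp : c' ⤳ c := j₂.isEmbedding.isInducing.specializes_iff.mp (hc' ▸ hζ')
    rw [← e, ← hc', H17.mem_genericPoints_iff.mp hc c' hsp]
  haveI : Flat (fst G G).left := inferInstanceAs (Flat (pullback.fst G.hom G.hom))
  haveI : Flat (snd G G).left := inferInstanceAs (Flat (pullback.snd G.hom G.hom))
  exact ⟨key _ inferInstance, key _ inferInstance, key _ (flat_mul G)⟩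

end Groth.Agent.H21NormExt
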