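import Groth.Agent.H21Desc.Family
import Groth.Agent.H06EGA17.StalkApps
import Groth.Agent.H21Diag.Mono
import Groth.Agent.H21Diag.Conj

/-!
Morphisms out of schemes smooth over a normal integral base are determined on the generic fibre; gluing extensions of a
homomorphism given on the generic fibre.
-/

set_option autoImplicit false
set_option linter.style.haveILetI false
set_option backward.isDefEq.respectTransparency false

universe u

open CategoryTheory MonoidalCategory CartesianMonoidalCategory MonObj GrpObj AlgebraicGeometry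
open CategoryTheory.Limits
open Groth.Agent.H21Desc

namespace Groth.Agent.H21NormExt

variable {S : Scheme.{u}} [IsIntegral S]

/-- the generic point -/
noncomputable abbrev gen (S : Scheme.{u}) [IsIntegral S] : Over S :=
  Over.mk (S.fromSpecResidueField (genericPoint S))

theorem isReduced_of_smooth (hnorm : ∀ x : S, IsIntegrallyClosed (S.presheaf.stalk x)) {X : Scheme.{u}}
    (f : X ⟶ S) [Smooth f] : IsReduced X := by
  haveI : ∀ x, IsReduced (X.presheaf.stalk x) := fun x => by
    haveI := hnorm (f x)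
    exact (Groth.Agent.H06EGA17.isReduced_stalk_iff f x (by rw [Scheme.Hom.smoothLocus_eq_top f]; trivial)).mpr
      inferInstance
  exact isReduced_of_isReduced_stalk X

theorem mem_range_fst (X : Over S) (x : X.left) (hx : X.hom x = genericPoint S) :
    x ∈ Set.range (pullback.fst X.hom (gen S).hom) := by
  rw [Scheme.Pullback.range_fst]
  change X.hom x ∈ Set.range (S.fromSpecResidueField (genericPoint S))
  rw [Scheme.range_fromSpecResidueField]
  exact hx

theorem isDominant_fst (X : Over S) [UniversallyOpen X.hom] :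
    IsDominant (pullback.fst X.hom (gen S).hom) := by
  refine ⟨dense_iff_inter_open.mpr fun O hO ⟨x, hx⟩ => ?_⟩
  obtain ⟨x', hx', e⟩ : genericPoint S ∈ X.hom '' O :=
    (genericPoint_spec S).mem_open_set_iff (X.hom.isOpenMap _ hO) |>.mpr ⟨X.hom x, trivial, x, hx, rfl⟩
  exact ⟨x', hx', mem_range_fst X x' e⟩

/-- maps from smooth schemes are determined on the generic fibre -/
theorem eq_of_generic (hnorm : ∀ x : S, IsIntegrallyClosed (S.presheaf.stalk x)) {X Y : Over S} [Smooth X.hom]
    [IsSeparated Y.hom] (a b : X ⟶ Y) (h : fst X (gen S) ≫ a = fst X (gen S) ≫ b) : a = b := by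
  haveI := isReduced_of_smooth hnorm X.hom
  haveI := isDominant_fst X
  exact Over.OverMorphism.ext (ext_of_isDominant_of_isSeparated Y.hom ((Over.w a).trans (Over.w b).symm)
    (pullback.fst X.hom (gen S).hom) (congrArg CommaMorphism.left h))

variable {H T : Over S} [GrpObj H] [GrpObj T]
  (uη : Red.bc (S.fromSpecResidueField (genericPoint S)) H ⟶ Red.bc (S.fromSpecResidueField (genericPoint S)) T)

/-- `q` extends the given homomorphism along `a` -/
def Ext {X : Over S} (a : X ⟶ H) (q : X ⟶ T) : Prop :=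
  fst X (gen S) ≫ q = (a ▷ gen S) ≫ fam uη

omit [GrpObj H] [GrpObj T] in
theorem Ext.comp {X X' : Over S} {a : X ⟶ H} {q : X ⟶ T} (h : Ext uη a q) (k : X' ⟶ X) :
    Ext uη (k ≫ a) (k ≫ q) := by
  rw [Ext, ← Category.assoc, ← whiskerRight_fst, Category.assoc, h, comp_whiskerRight_assoc]

/-- locally extendable homomorphisms extend -/
theorem exists_extension (hnorm : ∀ x : S, IsIntegrallyClosed (S.presheaf.stalk x)) [Smooth H.hom] [IsSeparated T.hom]
    [IsMonHom uη]
    (hloc : ∀ h : H.left, ∃ (X : Over S) (a : X ⟶ H) (q : X ⟶ T), Etale a.left ∧ h ∈ Set.range a.left ∧ Ext uη a q) :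
    ∃ u : H ⟶ T, IsMonHom u ∧ (Over.pullback (S.fromSpecResidueField (genericPoint S))).map u = uη := by
  choose X a q he hmem hext using hloc
  haveI := he
  let π : (∐ fun h => (X h).left) ⟶ H.left := Sigma.desc fun h => (a h).left
  let q₀ : (∐ fun h => (X h).left) ⟶ T.left := Sigma.desc fun h => (q h).left
  let Y : Over S := Over.mk (π ≫ H.hom)
  let πY : Y ⟶ H := Over.homMk π
  let qY : Y ⟶ T := Over.homMk q₀ (Sigma.hom_ext _ _ fun h => by simp [q₀, Y, π])
  let ιY : ∀ h, X h ⟶ Y := fun h => Over.homMk (Sigma.ι (fun h => (X h).left) h) (by simp [Y, π])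
  have hι : ∀ h, ιY h ≫ πY = a h ∧ ιY h ≫ qY = q h := fun h =>
    ⟨Over.OverMorphism.ext (Sigma.ι_desc _ _), Over.OverMorphism.ext (Sigma.ι_desc _ _)⟩
  have hY : Ext uη πY qY := by
    refine Over.OverMorphism.ext (Scheme.Cover.hom_ext ((sigmaOpenCover fun h => (X h).left).pullback₁
      (pullback.fst Y.hom (gen S).hom)) _ _ fun h => ?_)
    let Z := pullback (pullback.fst Y.hom (gen S).hom) (Sigma.ι (fun h => (X h).left) h)
    let k : Over.mk ((pullback.fst (pullback.fst Y.hom (gen S).hom) (Sigma.ι (fun h => (X h).left) h)) ≫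
        (Y ⊗ gen S).hom) ⟶ X h ⊗ gen S :=
      lift (Over.homMk (pullback.snd _ _) (by
          change pullback.snd _ _ ≫ (X h).hom = pullback.fst _ _ ≫ pullback.fst Y.hom (gen S).hom ≫ Y.hom
          rw [pullback.condition_assoc]
          exact congrArg (pullback.snd _ _ ≫ ·) (Over.w (ιY h)).symm))
        (Over.homMk (pullback.fst _ _) rfl ≫ snd Y (gen S))
    have hk : k ≫ (ιY h ▷ gen S) = Over.homMk (pullback.fst _ _) rfl := by
      apply CartesianMonoidalCategory.hom_ext
      · refine Over.OverMorphism.ext ?_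
        simp only [k, Category.assoc, whiskerRight_fst, lift_fst_assoc]
        exact pullback.condition.symm
      · simp [k]
    have := congrArg (k ≫ ·) (hext h)
    simp only [← (hι h).1, ← (hι h).2, comp_whiskerRight_assoc] at this
    rw [← whiskerRight_fst_assoc, ← Category.assoc k, hk, ← Category.assoc k, hk] at this
    exact congrArg CommaMorphism.left this
  haveI : Etale π := IsZariskiLocalAtSource.sigmaDesc (P := @Etale) inferInstance
  haveI : Surjective π := ⟨fun h => by
    obtain ⟨x, hx⟩ := hmem h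
    exact ⟨Sigma.ι (fun h => (X h).left) h x, by rw [← Scheme.Hom.comp_apply, Sigma.ι_desc]; exact hx⟩⟩
  haveI : EffectiveEpi π := inferInstance
  have hdesc : ∀ {Z : Scheme.{u}} (g₁ g₂ : Z ⟶ ∐ fun h => (X h).left), g₁ ≫ π = g₂ ≫ π → g₁ ≫ q₀ = g₂ ≫ q₀ := by
    intro Z g₁ g₂ hg
    let R : Over S := Over.mk (pullback.fst π π ≫ π ≫ H.hom)
    let r₁ : R ⟶ Y := Over.homMk (pullback.fst π π)
    let r₂ : R ⟶ Y := Over.homMk (pullback.snd π π) (by simp [R, Y, pullback.condition_assoc])
    haveI : Smooth R.hom := inferInstanceAs (Smooth (pullback.fst π π ≫ π ≫ H.hom))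
    have hr : r₁ ≫ qY = r₂ ≫ qY := eq_of_generic hnorm _ _ (by
      rw [(hY.comp uη r₁), (hY.comp uη r₂),
        show r₁ ≫ πY = r₂ ≫ πY from Over.OverMorphism.ext pullback.condition])
    have h1 := congrArg (pullback.lift g₁ g₂ hg ≫ ·) (congrArg CommaMorphism.left hr)
    simpa [r₁, r₂, qY] using h1
  let u₀ := EffectiveEpi.desc π q₀ hdesc
  have hu₀ : π ≫ u₀ = q₀ := EffectiveEpi.fac π q₀ hdesc
  let u : H ⟶ T := Over.homMk u₀ ((cancel_epi π).mp (by rw [reassoc_of% hu₀]; exact Over.w qY))
  have huY : πY ≫ u = qY := Over.OverMorphism.ext hu₀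
  have hu : fst H (gen S) ≫ u = fam uη := by
    haveI : Etale πY.left := inferInstanceAs (Etale π)
    haveI : Surjective πY.left := inferInstanceAs (Surjective π)
    haveI : Flat (πY ▷ gen S).left := MorphismProperty.baseChange_map (P := @Flat) _ _ inferInstance
    haveI : Surjective (πY ▷ gen S).left := MorphismProperty.baseChange_map (P := @Surjective) _ _ inferInstance
    haveI : LocallyOfFinitePresentation (πY ▷ gen S).left :=
      MorphismProperty.baseChange_map (P := @LocallyOfFinitePresentation) _ _ inferInstance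
    haveI : Epi (πY ▷ gen S) := Over.epi_of_epi_left _
    rw [← cancel_epi (πY ▷ gen S), whiskerRight_fst_assoc, huY]
    exact hY
  refine ⟨u, H21Diag.isMonHom_of_mul u fun {X} g₁ g₂ => ?_, ?_⟩
  · haveI : Smooth (H ⊗ H).hom := inferInstanceAs (Smooth (pullback.fst H.hom H.hom ≫ H.hom))
    have hμ : (fst H H * snd H H) ≫ u = (fst H H ≫ u) * (snd H H ≫ u) := eq_of_generic hnorm _ _ (by
      simp only [MonObj.comp_mul]
      have e : ∀ g : H ⊗ H ⟶ H, fst (H ⊗ H) (gen S) ≫ g ≫ u =
          fwd (snd (H ⊗ H) (gen S)) (bwd (snd (H ⊗ H) (gen S)) (fst (H ⊗ H) (gen S) ≫ g) ≫ uη) := fun g => by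
        rw [← whiskerRight_fst_assoc, hu, ← lift_fam]
        congr 1
      rw [e, e, e, MonObj.comp_mul, bwd_mul, MonObj.mul_comp, fwd_mul])
    have := congrArg (lift g₁ g₂ ≫ ·) hμ
    simpa only [MonObj.comp_mul, ← Category.assoc, lift_fst, lift_snd] using this
  · refine Over.OverMorphism.ext (pullback.hom_ext ?_ ((Over.w _).trans (Over.w uη).symm))
    refine Eq.trans ?_ ((congrArg CommaMorphism.left hu).trans ?_)
    · exact pullback.lift_fst _ _ _
    · refine (fwd_left _ _).trans ?_
      refine congrArg (· ≫ _) ?_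
      refine Eq.trans (congrArg (· ≫ uη.left) ?_) (Category.id_comp _)
      exact pullback.hom_ext ((pullback.lift_fst _ _ _).trans (Category.id_comp _).symm)
        ((pullback.lift_snd _ _ _).trans (Category.id_comp _).symm)

end Groth.Agent.H21NormExt
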