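import Groth.Agent.H21NormExt.Main
import Groth.Agent.H21Diag.Diag
import Groth.Agent.H21Diag.Conjugate

/-!
The multiplicative group is smooth with connected fibres.
-/

set_option autoImplicit false
set_option linter.style.haveILetI false
set_option backward.isDefEq.respectTransparency false

universe u

open CategoryTheory MonoidalCategory CartesianMonoidalCategory MonObj GrpObj AlgebraicGeometry
open CategoryTheory.Limits

namespace Groth.Agent.H21NormExt

theorem smooth_laurent (R : Type u) [CommRing R] : Algebra.Smooth R (MonoidAlgebra R (Multiplicative ℤ)) := by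
  haveI : IsScalarTower R (Polynomial R) (LaurentPolynomial R) := IsScalarTower.of_algebraMap_eq fun r => by
    rw [LaurentPolynomial.algebraMap_eq_toLaurent, Polynomial.algebraMap_eq, Polynomial.toLaurent_C]
    rfl
  haveI : Algebra.Smooth (Polynomial R) (LaurentPolynomial R) :=
    Algebra.Smooth.of_isLocalization_Away (Polynomial.X : Polynomial R)
  haveI : Algebra.Smooth R (Polynomial R) := ⟨inferInstance, inferInstance⟩
  haveI : Algebra.Smooth R (LaurentPolynomial R) := Algebra.Smooth.comp R (Polynomial R) _
  exact Algebra.Smooth.of_equiv (AddMonoidAlgebra.toMultiplicativeAlgEquiv R R ℤ)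

theorem smooth_Gm (S : Scheme.{u}) : Smooth (Red.Gm S).hom := by
  refine MorphismProperty.pullback_snd (P := @Smooth) _ _ ?_
  change Smooth (Spec.map (CommRingCat.ofHom (algebraMap (ULift.{u} ℤ) _)))
  rw [HasRingHomProperty.Spec_iff (P := @Smooth), CommRingCat.hom_ofHom]
  exact RingHom.smooth_algebraMap.mpr (smooth_laurent _)

theorem connectedSpace_fiber_Gm {S : Scheme.{u}} (s : S) : ConnectedSpace ↥((Red.Gm S).hom.fiber s) := by
  let k := S.residueField s
  let e : Red.bc (S.fromSpecResidueField s) (Red.Gm S) ≅ Red.DS (Spec k) ℤ :=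
    (Grp.forget _).mapIso (H21Diag.bcDSIso (S.fromSpecResidueField s) ℤ)
  let e' : Red.diag k ℤ ≅ Red.DS (Spec k) ℤ := asIso (H21Diag.diagToDS k ℤ)
  haveI : IrreducibleSpace (Red.diag k ℤ).left :=
    inferInstanceAs (IrreducibleSpace (PrimeSpectrum (MonoidAlgebra k (Multiplicative ℤ))))
  haveI : ConnectedSpace (Red.diag k ℤ).left := inferInstance
  let f : (Red.diag k ℤ).left ≅ (Red.bc (S.fromSpecResidueField s) (Red.Gm S)).left :=
    (Over.forget _).mapIso (e' ≪≫ e.symm)
  exact (Scheme.Hom.homeomorph f.hom).surjective.connectedSpace (Scheme.Hom.homeomorph f.hom).continuous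

end Groth.Agent.H21NormExt
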