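import Groth.Agent.H1CAlg.Serre
import Mathlib.RingTheory.Valuation.Discrete.IsDiscreteValuationRing

/-!
A multiplicative fraction is a unit at a height one prime.
-/

set_option autoImplicit false
set_option linter.style.haveILetI false

universe u

namespace Groth.Agent.H21NormExt

theorem isDVR_of_height_one {N : Type u} [CommRing N] [IsDomain N] [IsNoetherianRing N] [IsIntegrallyClosed N]
    (Q : Ideal N) [Q.IsPrime] (hQ : Q.height = 1) : IsDiscreteValuationRing (Localization.AtPrime Q) := by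
  set R := Localization.AtPrime Q with hR
  haveI : IsDomain R := IsLocalization.isDomain_of_le_nonZeroDivisors _ Q.primeCompl_le_nonZeroDivisors
  haveI : IsNoetherianRing R := IsLocalization.isNoetherianRing Q.primeCompl R inferInstance
  haveI : IsIntegrallyClosed R :=
    isIntegrallyClosed_of_isLocalization R Q.primeCompl Q.primeCompl_le_nonZeroDivisors
  have hdim : ringKrullDim R = 1 := by
    rw [IsLocalization.AtPrime.ringKrullDim_eq_height Q, hQ]; rfl
  have hnf : ¬ IsField R := fun hf => by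
    rw [ringKrullDim_eq_zero_of_isField hf] at hdim
    exact zero_ne_one hdim
  haveI : IsRegularLocalRing R :=
    H1CAlg.isRegularLocalRing_of_isIntegrallyClosed (R := R) hdim.le
  refine ((IsDiscreteValuationRing.TFAE R hnf).out 0 4).2 ?_
  have h1 : ((IsLocalRing.maximalIdeal R).spanFinrank : WithBot ℕ∞) = 1 := by
    rw [IsRegularLocalRing.spanFinrank_maximalIdeal, hdim]
  have h2 : (IsLocalRing.maximalIdeal R).spanFinrank ≤ 1 := by exact_mod_cast h1.le
  have hfg : (IsLocalRing.maximalIdeal R).FG := (IsLocalRing.maximalIdeal R).fg_of_isNoetherianRing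
  obtain ⟨s, hs, hcard⟩ : ∃ s : Set R, Submodule.span R s = IsLocalRing.maximalIdeal R ∧ s.ncard ≤ 1 ∧ s.Finite :=
    ⟨(IsLocalRing.maximalIdeal R).generators, Submodule.span_generators _,
      (Submodule.FG.generators_ncard hfg).le.trans h2, Submodule.FG.finite_generators hfg⟩
  rcases (Set.ncard_le_one_iff_eq hcard.2).1 hcard.1 with h0 | ⟨a, ha⟩
  · exact ⟨0, by rw [← hs, h0]; simp⟩
  · exact ⟨a, by rw [← hs, ha]⟩

/-- Three homomorphisms to a ring in which `p` is a regular non-unit, local at `Q`, under which the fraction `a / r`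
is multiplicative: then `a / r` is regular at `Q`. -/
theorem exists_mul_of_height_one {A O : Type u} [CommRing A] [IsDomain A] [IsNoetherianRing A] [IsIntegrallyClosed A]
    [CommRing O] (Q : Ideal A) [Q.IsPrime] (hQ : Q.height = 1) (α₁ α₂ α₃ : A →+* O)
    (h₁ : ∀ s, s ∉ Q → IsUnit (α₁ s)) (h₂ : ∀ s, s ∉ Q → IsUnit (α₂ s)) (h₃ : ∀ s, s ∉ Q → IsUnit (α₃ s))
    (π : A) (hπQ : π ∈ Q) (hπ0 : π ≠ 0) (p : O) (hp₁ : α₁ π = p) (hp₂ : α₂ π = p) (hp₃ : α₃ π = p)
    (hp : p ∈ nonZeroDivisors O) (hpu : ¬ IsUnit p) {a r : A} (ha : a ≠ 0) (hr : r ≠ 0)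
    (hmul : α₁ a * α₂ a * α₃ r = α₃ a * α₁ r * α₂ r) : ∃ s, s ∉ Q ∧ ∃ y, y * r = s * a := by
  let R := Localization.AtPrime Q
  haveI := isDVR_of_height_one Q hQ
  have hinj : Function.Injective (algebraMap A R) := IsLocalization.injective R Q.primeCompl_le_nonZeroDivisors
  have hne : ∀ x : A, x ≠ 0 → algebraMap A R x ≠ 0 := fun x hx e => hx (hinj (e.trans (map_zero _).symm))
  obtain ⟨ϖ, hϖ⟩ := IsDiscreteValuationRing.exists_irreducible R
  obtain ⟨e, v, hv⟩ := IsDiscreteValuationRing.eq_unit_mul_pow_irreducible (hne π hπ0) hϖ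
  obtain ⟨i, u, hu⟩ := IsDiscreteValuationRing.eq_unit_mul_pow_irreducible (hne a ha) hϖ
  obtain ⟨j, w, hw⟩ := IsDiscreteValuationRing.eq_unit_mul_pow_irreducible (hne r hr) hϖ
  have he : e ≠ 0 := by
    rintro rfl
    rw [pow_zero, mul_one] at hv
    exact (IsLocalization.AtPrime.isUnit_to_map_iff R Q π).mp (hv ▸ v.isUnit) hπQ
  have key : ∀ (α : A →+* O), (∀ s, s ∉ Q → IsUnit (α s)) → α π = p →
      ∃ x y : Oˣ, α a ^ e = x * p ^ i ∧ α r ^ e = y * p ^ j := by
    intro α hα hαp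
    let β : R →+* O := IsLocalization.lift (M := Q.primeCompl) (g := α) fun s => hα s s.2
    have hβ : ∀ x, β (algebraMap A R x) = α x := fun x => IsLocalization.lift_eq _ x
    have hβv : β ϖ ^ e * β v = p := by rw [← map_pow, ← map_mul, mul_comm (ϖ ^ e), ← hv, hβ, hαp]
    have hpe : β ϖ ^ e = p * ((Units.map β.toMonoidHom v)⁻¹ : Oˣ) := by
      rw [Units.eq_mul_inv_iff_mul_eq]
      exact hβv
    have h : ∀ (x : A) (k : ℕ) (z : Rˣ), algebraMap A R x = z * ϖ ^ k → ∃ y : Oˣ, α x ^ e = y * p ^ k := by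
      intro x k z hz
      refine ⟨Units.map β.toMonoidHom z ^ e * ((Units.map β.toMonoidHom v)⁻¹) ^ k, ?_⟩
      rw [← hβ, hz, map_mul, map_pow, mul_pow, ← pow_mul, mul_comm k e, pow_mul, hpe, mul_pow]
      push_cast
      simp only [RingHom.toMonoidHom_eq_coe, Units.coe_map, MonoidHom.coe_coe]
      ring
    obtain ⟨x, hx⟩ := h a i u hu
    obtain ⟨y, hy⟩ := h r j w hw
    exact ⟨x, y, hx, hy⟩
  obtain ⟨x₁, y₁, hx₁, hy₁⟩ := key α₁ h₁ hp₁
  obtain ⟨x₂, y₂, hx₂, hy₂⟩ := key α₂ h₂ hp₂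
  obtain ⟨x₃, y₃, hx₃, hy₃⟩ := key α₃ h₃ hp₃
  have hmain : ((x₁ * x₂ * y₃ : Oˣ) : O) * p ^ (i + i + j) = ((x₃ * y₁ * y₂ : Oˣ) : O) * p ^ (i + j + j) := by
    have h0 := congrArg (· ^ e) hmul
    simp only [mul_pow, hx₁, hx₂, hx₃, hy₁, hy₂, hy₃] at h0
    push_cast
    rw [pow_add, pow_add, pow_add, pow_add]
    linear_combination h0
  have contra : ∀ (k n : ℕ) (z z' : Oˣ), (z : O) * p ^ (k + (n + 1)) = (z' : O) * p ^ k → False := by
    intro k n z z' h
    have h1 : ((z : O) * p ^ (n + 1) - z') * p ^ k = 0 := by rw [pow_add] at h; linear_combination h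
    have h2 := (pow_mem hp k).2 _ h1
    rw [sub_eq_zero] at h2
    exact hpu (isUnit_pow_iff (Nat.succ_ne_zero n) |>.mp (isUnit_of_mul_isUnit_right (h2 ▸ z'.isUnit)))
  have hij : i = j := by
    rcases lt_trichotomy i j with h | h | h
    · obtain ⟨n, rfl⟩ := Nat.exists_eq_add_of_lt h
      refine (contra (i + i + (i + n + 1)) n (x₃ * y₁ * y₂) (x₁ * x₂ * y₃) ?_).elim
      rw [hmain]
      congr 2
      omega
    · exact h
    · obtain ⟨n, rfl⟩ := Nat.exists_eq_add_of_lt h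
      refine (contra (j + n + 1 + j + j) n (x₁ * x₂ * y₃) (x₃ * y₁ * y₂) ?_).elim
      rw [← hmain]
      congr 2
      omega
  subst hij
  obtain ⟨⟨y, s⟩, hys⟩ := IsLocalization.surj Q.primeCompl ((u * w⁻¹ : Rˣ) : R)
  refine ⟨s.1, s.2, y, hinj ?_⟩
  simp only [map_mul]
  rw [← hys, hu, hw]
  push_cast
  calc (u : R) * ↑w⁻¹ * algebraMap A R s * (w * ϖ ^ i) = algebraMap A R s * (u * ϖ ^ i) * (↑w⁻¹ * w) := by ring
    _ = _ := by simp

end Groth.Agent.H21NormExt
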