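import Groth.Agent.H21NormExt.Points
import Groth.Agent.H21NormExt.CommonPoint
import Groth.Agent.H21NormExt.Valuation
import Groth.Agent.H19Grp.ConnFibre
import Groth.Agent.H3CAlg.Mori.NormalVal
import Groth.Agent.H21Desc.HomTwConst
import Groth.Agent.H21Hom.MultTypeEtale
import Groth.Agent.H22Alg.FlatSurj

/-!
A homomorphism from a smooth group with connected fibres into a group of multiplicative type, given on the generic
fibre of a normal base, extends étale locally.
-/

set_option autoImplicit false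
set_option linter.style.haveILetI false
set_option backward.isDefEq.respectTransparency false
set_option maxHeartbeats 1000000

universe u

open CategoryTheory MonoidalCategory CartesianMonoidalCategory MonObj GrpObj AlgebraicGeometry
open CategoryTheory.Limits
open Groth.Agent.H21Desc Groth.Agent.H21Diag

namespace Groth.Agent.H21NormExt

variable {S : Scheme.{u}} [IsIntegral S] {H T : Over S} [GrpObj H] [GrpObj T]
  (uη : Red.bc (S.fromSpecResidueField (genericPoint S)) H ⟶ Red.bc (S.fromSpecResidueField (genericPoint S)) T)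

/-- the homomorphism on points over the generic point -/
noncomputable def onPts {X : Over S} (t : X ⟶ gen S) (a : X ⟶ H) : X ⟶ T := lift a t ≫ fam uη

omit [GrpObj H] [GrpObj T] in
theorem comp_onPts {X X' : Over S} (k : X' ⟶ X) (t : X ⟶ gen S) (t' : X' ⟶ gen S) (a : X ⟶ H) :
    k ≫ onPts uη t a = onPts uη t' (k ≫ a) := by
  rw [onPts, onPts, comp_lift_assoc, Subsingleton.elim t' (k ≫ t)]

theorem onPts_mul [IsMonHom uη] {X : Over S} (t : X ⟶ gen S) (a b : X ⟶ H) :
    onPts uη t (a * b) = onPts uη t a * onPts uη t b := by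
  simp only [onPts, lift_fam, bwd_mul, MonObj.mul_comp, fwd_mul]

omit [IsIntegral S] in
/-- characters of points are natural -/
theorem gpt_natural {U : Scheme.{u}} {M : Type} [AddCommGroup M] {u₀ : U ⟶ S} {G : Over S} [GrpObj G]
    (e : Grp.mk (Red.bc u₀ G) ≅ Grp.mk (Red.DS U M)) {B B' : Type u} [CommRing B] [CommRing B']
    (φ : B →+* B') (y : Spec (CommRingCat.of B) ⟶ U) (y' : Spec (CommRingCat.of B') ⟶ U)
    (h : Spec.map (CommRingCat.ofHom φ) ≫ y = y') (χ : Multiplicative M →* B)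
    (m : Over.mk (y' ≫ u₀) ⟶ Over.mk (y ≫ u₀)) (hm : m.left = Spec.map (CommRingCat.ofHom φ)) :
    gpt e y' (φ.toMonoidHom.comp χ) = m ≫ gpt e y χ := by
  subst h
  refine Over.OverMorphism.ext ?_
  rw [gpt_comp, Over.comp_left, hm]

variable {R : CommRingCat.{u}} [IsDomain R] (g : Spec R ⟶ S) [Etale g] {A : CommRingCat.{u}} [IsDomain A]
  [IsNoetherianRing A] [IsIntegrallyClosed A] (j : Spec A ⟶ (Red.bc g H).left) [IsOpenImmersion j]

/-- the structure map of the affine piece -/
noncomputable abbrev structMap : R ⟶ A := Spec.preimage (j ≫ (Red.bc g H).hom)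

omit [GrpObj H] [IsDomain R] [Etale g] [IsDomain A] [IsNoetherianRing A] [IsIntegrallyClosed A] [IsOpenImmersion j] [IsIntegral S] in
theorem structMap_spec : Spec.map (structMap g j) = j ≫ (Red.bc g H).hom := Spec.map_preimage _

/-- the affine piece over `S` -/
noncomputable abbrev piece : Over S := Over.mk (Spec.map (structMap g j) ≫ g)

/-- the affine piece in `H` -/
noncomputable def pieceMap : piece g j ⟶ H :=
  Over.homMk (j ≫ pullback.fst H.hom g) (by
    change (j ≫ pullback.fst H.hom g) ≫ H.hom = Spec.map (structMap g j) ≫ g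
    rw [structMap_spec, Category.assoc, Category.assoc, pullback.condition]
    rfl)

theorem exists_mul_eq (hH : Smooth H.hom)
    (hconn : ∀ s : S, ConnectedSpace (H.hom.fiber s)) [IsMonHom uη] {M : Type} [AddCommGroup M]
    (e : Grp.mk (Red.bc g T) ≅ Grp.mk (Red.DS (Spec R) M))
    (AK : Type u) [CommRing AK] [Algebra A AK] [IsLocalization ((nonZeroDivisors R).map (structMap g j).hom) AK]
    (m : Over.mk ((Spec.map (CommRingCat.ofHom (algebraMap A AK)) ≫ Spec.map (structMap g j)) ≫ g) ⟶ piece g j)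
    (hm : m.left = Spec.map (CommRingCat.ofHom (algebraMap A AK)))
    (t : Over.mk ((Spec.map (CommRingCat.ofHom (algebraMap A AK)) ≫ Spec.map (structMap g j)) ≫ g) ⟶ gen S)
    (χ : Multiplicative M →* AK)
    (hχ : gpt e (Spec.map (CommRingCat.ofHom (algebraMap A AK)) ≫ Spec.map (structMap g j)) χ =
      onPts uη t (m ≫ pieceMap g j))
    (x : Multiplicative M) (a r : A) (hr : r ∈ (nonZeroDivisors R).map (structMap g j).hom)
    (hx : χ x * algebraMap A AK r = algebraMap A AK a) (Q : Ideal A) [Q.IsPrime] (hQ : Q.height = 1) :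
    ∃ s, s ∉ Q ∧ ∃ y, y * r = s * a := by
  let ρ := structMap g j
  haveI : Smooth g := inferInstance
  haveI : Smooth (Red.bc g H).hom := inferInstanceAs (Smooth (pullback.snd H.hom g))
  have hρflat : ρ.hom.Flat := by
    rw [← HasRingHomProperty.Spec_iff (P := @Flat)]
    rw [structMap_spec]
    infer_instance
  have hle : (nonZeroDivisors R).map ρ.hom ≤ nonZeroDivisors A := by
    letI := ρ.hom.toAlgebra
    haveI : Module.Flat R A := hρflat
    exact map_nonZeroDivisors_le
  have hr0 : r ≠ 0 := nonZeroDivisors.ne_zero (hle hr)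
  by_cases hbot : Q.comap ρ.hom = ⊥
  · refine ⟨r, fun hrQ => ?_, a, mul_comm a r⟩
    obtain ⟨r₀, hr₀, rfl⟩ := hr
    have : r₀ ∈ Q.comap ρ.hom := hrQ
    rw [hbot] at this
    exact nonZeroDivisors.ne_zero hr₀ (Ideal.mem_bot.mp this)
  obtain ⟨π₀, hπ₀, hπ0⟩ := Submodule.exists_mem_ne_zero_of_ne_bot hbot
  have hπA : ρ.hom π₀ ≠ 0 := nonZeroDivisors.ne_zero (hle ⟨π₀, mem_nonZeroDivisors_of_ne_zero hπ0, rfl⟩)
  let G := Red.bc g H
  let q : Spec A := (⟨Q, inferInstance⟩ : PrimeSpectrum A)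
  let ξ := j q
  have hmax : ∀ z, G.hom z = G.hom ξ → z ⤳ ξ → z = ξ := by
    intro z hz hzs
    obtain ⟨q', rfl⟩ := hzs.mem_open j.isOpenEmbedding.isOpen_range ⟨q, rfl⟩
    have hq : q' ⤳ q := j.isEmbedding.isInducing.specializes_iff.mp hzs
    have hle' : q'.asIdeal ≤ Q := (PrimeSpectrum.le_iff_specializes q' q).mpr hq
    have hne : q'.asIdeal ≠ ⊥ := by
      intro h0
      have h1 : Spec.map ρ q' = Spec.map ρ q := by
        rw [structMap_spec, Scheme.Hom.comp_apply, Scheme.Hom.comp_apply]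
        exact hz
      have h2 : π₀ ∈ (Spec.map ρ q').asIdeal := by rw [h1]; exact hπ₀
      have h3 : ρ.hom π₀ ∈ q'.asIdeal := h2
      rw [h0] at h3
      exact hπA (Ideal.mem_bot.mp h3)
    refine congrArg j (PrimeSpectrum.ext (hle'.eq_or_lt.resolve_right fun hlt => ?_))
    have h4 := (Ideal.height_le_iff (p := Q) (n := 1)).1 hQ.le q'.asIdeal inferInstance hlt
    exact hne (Ideal.height_eq_zero_iff_eq_bot.1 (ENat.lt_one_iff_eq_zero.1 h4))
  haveI : IrreducibleSpace ↥(pullback G.hom ((Spec R).fromSpecResidueField (G.hom ξ))) :=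
    (Scheme.Hom.homeomorph (pullbackLeftPullbackSndIso H.hom g _).hom).irreducibleSpace_iff.mpr
      (H19Grp.irreducibleSpace_pullback_of_connected_fibres H hconn _)
  obtain ⟨ζ, hζ₁, hζ₂, hζ₃⟩ := exists_common_point G ξ hmax
  let P := G ⊗ G
  let O := P.left.presheaf.stalk ζ
  let pS := P.left.fromSpecStalk ζ
  let ρO : R ⟶ O := Spec.preimage (pS ≫ P.hom)
  have hO : ∀ f : P ⟶ G, f.left ζ = ξ → ∃ α : A ⟶ O, Spec.map α ≫ j = pS ≫ f.left ∧ ρ ≫ α = ρO ∧
      ∀ s, s ∉ Q → IsUnit (α.hom s) := by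
    intro f hf
    have hrange : Set.range (pS ≫ f.left) ⊆ Set.range j := by
      rintro _ ⟨z, rfl⟩
      rw [Scheme.Hom.comp_apply]
      have hzζ : pS z ∈ Set.range pS := ⟨z, rfl⟩
      rw [Scheme.range_fromSpecStalk] at hzζ
      exact ((hzζ.map f.left.continuous).trans (specializes_of_eq hf)).mem_open j.isOpenEmbedding.isOpen_range ⟨q, rfl⟩
    let k := IsOpenImmersion.lift j (pS ≫ f.left) hrange
    have hk : k ≫ j = pS ≫ f.left := IsOpenImmersion.lift_fac _ _ _
    have hα : Spec.map (Spec.preimage k) = k := Spec.map_preimage _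
    refine ⟨Spec.preimage k, by rw [hα, hk], ?_, fun s hs => ?_⟩
    · apply Spec.map_injective
      rw [Spec.map_comp, hα, structMap_spec, reassoc_of% hk, Spec.map_preimage, Over.w f]
    · have hkc : k (IsLocalRing.closedPoint O) = q := by
        apply j.isOpenEmbedding.injective
        rw [← Scheme.Hom.comp_apply, hk, Scheme.Hom.comp_apply, Scheme.fromSpecStalk_closedPoint]
        exact hf
      have hmem : (Spec.map (Spec.preimage k) (IsLocalRing.closedPoint O)).asIdeal = Q := by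
        rw [hα, hkc]
      by_contra hu
      exact hs (hmem ▸ (show s ∈ (Spec.map (Spec.preimage k) (IsLocalRing.closedPoint O)).asIdeal from
        (IsLocalRing.mem_maximalIdeal _).mpr hu))
  obtain ⟨α₁, hα₁, hρ₁, hu₁⟩ := hO (fst G G) hζ₁
  obtain ⟨α₂, hα₂, hρ₂, hu₂⟩ := hO (snd G G) hζ₂
  obtain ⟨α₃, hα₃, hρ₃, hu₃⟩ := hO (fst G G * snd G G) hζ₃
  haveI : Flat P.hom := inferInstanceAs (Flat (pullback.fst G.hom G.hom ≫ G.hom))
  haveI : Flat pS := H22Alg.flat_fromSpecStalk _ _
  have hρOflat : ρO.hom.Flat := by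
    rw [← HasRingHomProperty.Spec_iff (P := @Flat), Spec.map_preimage]
    infer_instance
  have hleO : (nonZeroDivisors R).map ρO.hom ≤ nonZeroDivisors O := by
    letI := ρO.hom.toAlgebra
    haveI : Module.Flat R O := hρOflat
    exact map_nonZeroDivisors_le
  let O' := Localization ((nonZeroDivisors R).map ρO.hom)
  have hinj : Function.Injective (algebraMap O O') := IsLocalization.injective O' hleO
  have hunit : ∀ r : R, r ≠ 0 → IsUnit ((algebraMap O O').comp ρO.hom r) := fun r hr =>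
    IsLocalization.map_units O' (⟨ρO.hom r, r, mem_nonZeroDivisors_of_ne_zero hr, rfl⟩ : (nonZeroDivisors R).map ρO.hom)
  let yO : Spec (CommRingCat.of O') ⟶ Spec R := Spec.map (CommRingCat.ofHom ((algebraMap O O').comp ρO.hom))
  obtain ⟨tO⟩ := exists_toGen g ((algebraMap O O').comp ρO.hom) hunit
  let c : Over.mk yO ⟶ P := Over.homMk (Spec.map (CommRingCat.ofHom (algebraMap O O')) ≫ pS) (by
    change (_ ≫ pS) ≫ P.hom = yO
    rw [Category.assoc, ← Spec.map_preimage (pS ≫ P.hom), ← Spec.map_comp]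
    rfl)
  let b : (P ⟶ G) → (Over.mk (yO ≫ g) ⟶ H) := fun f => (bcEquiv g H (Over.mk yO)).symm (c ≫ f)
  have hb : b (fst G G * snd G G) = b (fst G G) * b (snd G G) := by
    simp only [b, MonObj.comp_mul]
    exact bcEquiv_symm_mul _ _ _ _ _
  have key : ∀ (f : P ⟶ G) (α : A ⟶ O), Spec.map α ≫ j = pS ≫ f.left → ρ ≫ α = ρO →
      ∃ β : AK →+* O', β.comp (algebraMap A AK) = (algebraMap O O').comp α.hom ∧
        gpt e yO (β.toMonoidHom.comp χ) = onPts uη tO (b f) := by
    intro f α hα hρα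
    have hβu : ∀ s : (nonZeroDivisors R).map ρ.hom, IsUnit ((algebraMap O O').comp α.hom s) := by
      rintro ⟨_, r, hr, rfl⟩
      have : ((algebraMap O O').comp α.hom) (ρ.hom r) = (algebraMap O O').comp ρO.hom r :=
        congrArg (fun k : R ⟶ O => algebraMap O O' (k.hom r)) hρα
      rw [this]
      exact hunit r (nonZeroDivisors.ne_zero hr)
    let β : AK →+* O' := IsLocalization.lift (M := (nonZeroDivisors R).map ρ.hom) hβu
    have hβ : β.comp (algebraMap A AK) = (algebraMap O O').comp α.hom := IsLocalization.lift_comp _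
    refine ⟨β, hβ, ?_⟩
    have hy : Spec.map (CommRingCat.ofHom β) ≫ Spec.map (CommRingCat.ofHom (algebraMap A AK)) ≫ Spec.map ρ = yO := by
      rw [← Spec.map_comp_assoc, ← Spec.map_comp, ← CommRingCat.ofHom_comp, hβ]
      refine congrArg Spec.map (CommRingCat.hom_ext (RingHom.ext fun z => ?_))
      exact congrArg (fun k : R ⟶ O => algebraMap O O' (k.hom z)) hρα
    let mf : Over.mk (yO ≫ g) ⟶
        Over.mk ((Spec.map (CommRingCat.ofHom (algebraMap A AK)) ≫ Spec.map ρ) ≫ g) :=
      Over.homMk (Spec.map (CommRingCat.ofHom β)) (by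
        change Spec.map (CommRingCat.ofHom β) ≫ _ ≫ g = yO ≫ g
        rw [← Category.assoc, hy])
    rw [gpt_natural e β _ yO hy χ mf rfl, hχ, comp_onPts uη mf t tO]
    congr 1
    refine Over.OverMorphism.ext ?_
    change Spec.map (CommRingCat.ofHom β) ≫ m.left ≫ j ≫ pullback.fst H.hom g = _
    rw [hm, ← Spec.map_comp_assoc, ← CommRingCat.ofHom_comp, hβ, CommRingCat.ofHom_comp, Spec.map_comp,
      CommRingCat.ofHom_hom, Category.assoc, reassoc_of% hα]
    have hl : (b f).left = (c ≫ f).left ≫ pullback.fst H.hom g := by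
      conv_rhs => rw [← (bcEquiv g H (Over.mk yO)).apply_symm_apply (c ≫ f)]
      exact (bcEquiv_left_fst g H (Over.mk yO) (b f)).symm
    rw [hl]
    simp [c]
  obtain ⟨β₁, hβ₁, e₁⟩ := key _ α₁ hα₁ hρ₁
  obtain ⟨β₂, hβ₂, e₂⟩ := key _ α₂ hα₂ hρ₂
  obtain ⟨β₃, hβ₃, e₃⟩ := key _ α₃ hα₃ hρ₃
  have hmul : β₁.toMonoidHom.comp χ * β₂.toMonoidHom.comp χ = β₃.toMonoidHom.comp χ := by
    apply gpt_injective e yO
    rw [gpt_mul, e₁, e₂, e₃, hb]
    exact (onPts_mul uη _ _ _).symm
  have hxmul : β₁ (χ x) * β₂ (χ x) = β₃ (χ x) := DFunLike.congr_fun hmul x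
  have hcomp : ∀ (β : AK →+* O') (α : A ⟶ O), β.comp (algebraMap A AK) = (algebraMap O O').comp α.hom →
      β (χ x) * algebraMap O O' (α.hom r) = algebraMap O O' (α.hom a) := fun β α hβ => by
    have hr' : β (algebraMap A AK r) = algebraMap O O' (α.hom r) := RingHom.congr_fun hβ r
    have ha' : β (algebraMap A AK a) = algebraMap O O' (α.hom a) := RingHom.congr_fun hβ a
    rw [← hr', ← ha', ← map_mul, hx]
  have ha0 : a ≠ 0 := fun ha => by
    have hu : IsUnit (χ x * algebraMap A AK r) :=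
      ((Group.isUnit x).map χ).mul (IsLocalization.map_units AK ⟨r, hr⟩)
    rw [hx, ha, map_zero] at hu
    have : Nontrivial AK := (IsLocalization.injective AK hle).nontrivial
    exact not_isUnit_zero hu
  refine exists_mul_of_height_one Q hQ α₁.hom α₂.hom α₃.hom hu₁ hu₂ hu₃ (ρ.hom π₀) hπ₀ hπA (ρO.hom π₀)
    (by rw [← hρ₁]; rfl) (by rw [← hρ₂]; rfl) (by rw [← hρ₃]; rfl)
    (hleO ⟨π₀, mem_nonZeroDivisors_of_ne_zero hπ0, rfl⟩) (fun hu => ?_) ha0 hr0 ?_
  · have h1 : IsUnit (α₁.hom (ρ.hom π₀)) := by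
      rw [← hρ₁] at hu
      exact hu
    have hk : (Spec.map α₁ (IsLocalRing.closedPoint O)) = q := by
      apply j.isOpenEmbedding.injective
      rw [← Scheme.Hom.comp_apply, hα₁, Scheme.Hom.comp_apply, Scheme.fromSpecStalk_closedPoint]
      exact hζ₁
    have h2 : ρ.hom π₀ ∈ (Spec.map α₁ (IsLocalRing.closedPoint O)).asIdeal := by rw [hk]; exact hπ₀
    exact (IsLocalRing.mem_maximalIdeal _).mp h2 h1
  · apply hinj
    simp only [map_mul]
    rw [← hcomp β₁ α₁ hβ₁, ← hcomp β₂ α₂ hβ₂, ← hcomp β₃ α₃ hβ₃, ← hxmul]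
    ring

end Groth.Agent.H21NormExt
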