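import Groth.Agent.H21NormExt.Local

/-!
Homomorphisms from smooth groups with connected fibres to groups of multiplicative type extend from the generic fibre
of a normal base.
-/

set_option autoImplicit false
set_option linter.style.haveILetI false
set_option backward.isDefEq.respectTransparency false
set_option maxHeartbeats 1000000

universe u

open CategoryTheory MonoidalCategory CartesianMonoidalCategory MonObj GrpObj AlgebraicGeometry
open CategoryTheory.Limits
open Groth.Agent.H21Desc Groth.Agent.H21Diag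

namespace Groth.Agent.H21NormExt

variable {S : Scheme.{u}} [IsIntegral S] {H T : Over S} [GrpObj H] [GrpObj T]
  (uη : Red.bc (S.fromSpecResidueField (genericPoint S)) H ⟶ Red.bc (S.fromSpecResidueField (genericPoint S)) T)
  [IsMonHom uη]

theorem exists_piece_extension (hH : Smooth H.hom) (hconn : ∀ s : S, ConnectedSpace (H.hom.fiber s))
    {R : CommRingCat.{u}} [IsDomain R] (g : Spec R ⟶ S) [Etale g] {A : CommRingCat.{u}} [IsDomain A]
    [IsNoetherianRing A] [IsIntegrallyClosed A] (j : Spec A ⟶ (Red.bc g H).left) [IsOpenImmersion j]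
    {M : Type} [AddCommGroup M] (e : Grp.mk (Red.bc g T) ≅ Grp.mk (Red.DS (Spec R) M)) :
    ∃ q : piece g j ⟶ T, Ext uη (pieceMap g j) q := by
  let ρ := structMap g j
  haveI : Smooth (Red.bc g H).hom := inferInstanceAs (Smooth (pullback.snd H.hom g))
  have hρflat : ρ.hom.Flat := by
    rw [← HasRingHomProperty.Spec_iff (P := @Flat)]
    rw [structMap_spec]
    infer_instance
  let Mk := (nonZeroDivisors R).map ρ.hom
  have hle : Mk ≤ nonZeroDivisors A := by
    letI := ρ.hom.toAlgebra
    haveI : Module.Flat R A := hρflat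
    exact map_nonZeroDivisors_le
  let AK := Localization Mk
  have hinj : Function.Injective (algebraMap A AK) := IsLocalization.injective AK hle
  let ιK : Spec (CommRingCat.of AK) ⟶ Spec A := Spec.map (CommRingCat.ofHom (algebraMap A AK))
  let m : Over.mk ((ιK ≫ Spec.map ρ) ≫ g) ⟶ piece g j := Over.homMk ιK (Category.assoc _ _ _).symm
  have hu : ∀ r : R, r ≠ 0 → IsUnit ((algebraMap A AK).comp ρ.hom r) := fun r hr =>
    IsLocalization.map_units AK (⟨ρ.hom r, r, mem_nonZeroDivisors_of_ne_zero hr, rfl⟩ : Mk)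
  obtain ⟨t₀⟩ := exists_toGen g ((algebraMap A AK).comp ρ.hom) hu
  let t : Over.mk ((ιK ≫ Spec.map ρ) ≫ g) ⟶ gen S := Over.homMk t₀.left (by
    refine (Over.w t₀).trans ?_
    simp only [ιK, Over.mk_hom, ← Spec.map_comp]
    rfl)
  obtain ⟨χ, hχ⟩ := gpt_surjective e (ιK ≫ Spec.map ρ) (onPts uη t (m ≫ pieceMap g j))
  have hmem : ∀ x, ∃ y : A, algebraMap A AK y = χ x := fun x => by
    obtain ⟨⟨a, r, hr⟩, hx⟩ := IsLocalization.surj Mk (χ x)
    let L := FractionRing A
    have hrL : algebraMap A L r ≠ 0 := fun h =>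
      nonZeroDivisors.ne_zero (hle hr) (IsFractionRing.injective A L (h.trans (map_zero _).symm))
    obtain ⟨y, hy⟩ := H3CAlg.Mori.mem_range_of_height_one (N := A) (x := algebraMap A L a / algebraMap A L r)
      fun Q _ hQ => by
        obtain ⟨s, hs, y, hy⟩ := exists_mul_eq uη g j hH hconn e AK m rfl t χ hχ x a r hr hx Q hQ
        refine ⟨s, hs, y, ?_⟩
        rw [mul_div_assoc', eq_div_iff hrL, ← map_mul, ← map_mul, hy]
    rw [eq_div_iff hrL, ← map_mul] at hy
    refine ⟨y, (IsLocalization.map_units AK ⟨r, hr⟩).mul_left_injective ?_⟩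
    change algebraMap A AK y * algebraMap A AK r = χ x * algebraMap A AK r
    rw [← map_mul, IsFractionRing.injective A L hy]
    exact hx.symm
  choose χ₀ hχ₀ using hmem
  let χA : Multiplicative M →* A :=
    { toFun := χ₀
      map_one' := hinj (by rw [hχ₀, map_one, map_one])
      map_mul' := fun x y => hinj (by rw [hχ₀, map_mul, map_mul, hχ₀, hχ₀]) }
  let q : piece g j ⟶ T := gpt e (Spec.map ρ) χA
  have hq : m ≫ q = onPts uη t (m ≫ pieceMap g j) := by
    rw [← hχ]
    refine (gpt_natural e (algebraMap A AK) (Spec.map ρ) (ιK ≫ Spec.map ρ) rfl χA m rfl).symm.trans ?_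
    congr 1
    exact MonoidHom.ext hχ₀
  refine ⟨q, ?_⟩
  let P := piece g j ⊗ gen S
  obtain ⟨k, hk⟩ := exists_factor_localization g ρ (fst (piece g j) (gen S)).left fun z => by
    have h1 : P.hom z = g (Spec.map ρ ((fst (piece g j) (gen S)).left z)) := by
      rw [← Over.w (fst (piece g j) (gen S))]
      rfl
    refine h1.symm.trans ?_
    rw [← Over.w (snd (piece g j) (gen S)), Scheme.Hom.comp_apply]
    exact (S.fromSpecResidueField_apply _ _)
  let kY : P ⟶ Over.mk ((ιK ≫ Spec.map ρ) ≫ g) := Over.homMk k (by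
    change k ≫ (ιK ≫ Spec.map ρ) ≫ g = P.hom
    rw [Category.assoc, reassoc_of% hk]
    exact Over.w (fst (piece g j) (gen S)))
  have hkY : kY ≫ m = fst (piece g j) (gen S) := Over.OverMorphism.ext hk
  have := congrArg (kY ≫ ·) hq
  simp only [comp_onPts uη kY t (snd (piece g j) (gen S)), ← Category.assoc, hkY] at this
  rw [Ext, this, onPts]
  congr 1

theorem exists_hom_extend_generic [IsLocallyNoetherian S] (hnorm : ∀ x : S, IsIntegrallyClosed (S.presheaf.stalk x))
    (hH : Smooth H.hom) (hconn : ∀ s : S, ConnectedSpace (H.hom.fiber s)) (hT : SGA3x.IsMultTypeFT T) :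
    ∃ u : H ⟶ T, IsMonHom u ∧ (Over.pullback (S.fromSpecResidueField (genericPoint S))).map u = uη := by
  haveI : IsAffineHom T.hom := isAffineHom_of_multTypeFT hT
  refine exists_extension uη hnorm fun h => ?_
  have hn : ∀ {X : Scheme.{u}} (f : X ⟶ S) [Smooth f] (x : X),
      IsDomain (X.presheaf.stalk x) ∧ IsIntegrallyClosed (X.presheaf.stalk x) := fun f _ x =>
    (H06EGA17.isNormal_stalk_iff f x (by rw [Scheme.Hom.smoothLocus_eq_top f]; trivial)).mpr
      ⟨inferInstance, hnorm _⟩
  obtain ⟨V, g₀, hg₀, ⟨v, hv⟩, M, _, -, ⟨e₀⟩⟩ := H21Hom.exists_etale_chart_multTypeFT T hT (H.hom h)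
  haveI : Etale g₀ := hg₀
  haveI : IsLocallyNoetherian V := LocallyOfFiniteType.isLocallyNoetherian g₀
  obtain ⟨R, i, hi, hR, -, -, ⟨r, hr⟩⟩ := exists_normal_affine_nhd (hn g₀) v
  let g : Spec R ⟶ S := i ≫ g₀
  haveI : Etale g := inferInstanceAs (Etale (i ≫ g₀))
  let e := chartComp i g₀ e₀
  haveI : Smooth (Red.bc g H).hom := inferInstanceAs (Smooth (pullback.snd H.hom g))
  haveI : Smooth ((Red.bc g H).hom ≫ g) := inferInstance
  haveI : IsLocallyNoetherian (Red.bc g H).left := LocallyOfFiniteType.isLocallyNoetherian ((Red.bc g H).hom ≫ g)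
  obtain ⟨z, hz, -⟩ := Scheme.Pullback.exists_preimage_pullback (f := H.hom) (g := g) h r (by
    rw [Scheme.Hom.comp_apply, hr]; exact hv.symm)
  obtain ⟨A, j, hj, hA, hA', hA'', ⟨a, ha⟩⟩ := exists_normal_affine_nhd (hn ((Red.bc g H).hom ≫ g)) z
  obtain ⟨q, hq⟩ := exists_piece_extension uη hH hconn g j e
  refine ⟨piece g j, pieceMap g j, q, inferInstanceAs (Etale (j ≫ pullback.fst H.hom g)), ⟨a, ?_⟩, hq⟩
  change (j ≫ pullback.fst H.hom g) a = h
  rw [Scheme.Hom.comp_apply, ha]
  exact hz

end Groth.Agent.H21NormExt
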