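import Groth.Agent.H21NormExt.Generic
import Groth.Agent.H17.PointLocal
import Groth.Agent.H05EGA4.Topo
import Groth.Agent.H7Weight.GeomPts

/-!
Points over the generic point; affine neighbourhoods in normal schemes.
-/

set_option autoImplicit false
set_option linter.style.haveILetI false
set_option backward.isDefEq.respectTransparency false

universe u

open CategoryTheory MonoidalCategory CartesianMonoidalCategory MonObj GrpObj AlgebraicGeometry
open CategoryTheory.Limits
open Groth.Agent.H21Desc

namespace Groth.Agent.H21NormExt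

/-- normal Noetherian domains as affine neighbourhoods -/
theorem exists_normal_affine_nhd {X : Scheme.{u}} [IsLocallyNoetherian X]
    (hX : ∀ x : X, IsDomain (X.presheaf.stalk x) ∧ IsIntegrallyClosed (X.presheaf.stalk x)) (x : X) :
    ∃ (A : CommRingCat.{u}) (j : Spec A ⟶ X), IsOpenImmersion j ∧ IsDomain A ∧ IsNoetherianRing A ∧
      IsIntegrallyClosed A ∧ x ∈ Set.range j := by
  haveI : ∀ x, IsReduced (X.presheaf.stalk x) := fun x => by haveI := (hX x).1; infer_instance
  haveI : IsReduced X := isReduced_of_isReduced_stalk X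
  obtain ⟨_, ⟨W, hW, rfl⟩, hxW, -⟩ := X.isBasis_affineOpens.exists_subset_of_mem_open (Set.mem_univ x) isOpen_univ
  obtain ⟨U, hxU, -, hU, hUi⟩ := H17.exists_irreducible_nhd x W hxW (H17.finite_genericPoints_inter_affine W hW) (by
    haveI := (hX x).1
    rw [nilradical_eq_zero (X.presheaf.stalk x)]
    exact Ideal.isPrime_bot)
  let A := Γ(X, U)
  let j := hU.fromSpec
  haveI : IsReduced (Spec A) := isReduced_of_isOpenImmersion j
  haveI : IrreducibleSpace U := Subtype.irreducibleSpace hUi
  haveI : IrreducibleSpace (Spec A) :=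
    (Scheme.Hom.homeomorph hU.isoSpec.hom).irreducibleSpace_iff.mp ‹_›
  haveI := isIntegral_of_irreducibleSpace_of_isReduced (X := Spec A)
  haveI : IsNoetherianRing A := IsLocallyNoetherian.component_noetherian ⟨U, hU⟩
  haveI : IsDomain A := (affine_isIntegral_iff A).mp ‹_›
  refine ⟨A, j, inferInstance, ‹_›, ‹_›, IsIntegrallyClosed.of_localization_maximal fun P _ hP => ?_,
    hU.range_fromSpec.symm ▸ hxU⟩
  haveI := hP.isPrime
  let z : Spec A := ⟨P, inferInstance⟩
  let e : Localization.AtPrime P ≃+* X.presheaf.stalk (j z) :=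
    (StructureSheaf.stalkIso A z).toRingEquiv.trans
      (asIso (j.stalkMap z)).commRingCatIsoToRingEquiv.symm
  haveI := (hX (j z)).2
  exact IsIntegrallyClosed.of_equiv e.symm

theorem map_nonZeroDivisors_le {R A : Type u} [CommRing R] [CommRing A] [Algebra R A] [Module.Flat R A] :
    (nonZeroDivisors R).map (algebraMap R A) ≤ nonZeroDivisors A := by
  rintro _ ⟨r, hr, rfl⟩
  have h : IsSMulRegular A r := Module.Flat.isSMulRegular_of_nonZeroDivisors hr
  exact mem_nonZeroDivisors_iff_right.mpr fun x hx => h (by simpa [Algebra.smul_def, mul_comm] using hx)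

variable {S : Scheme.{u}} [IsIntegral S]

instance subsingleton_toGen (X : Over S) : Subsingleton (X ⟶ gen S) :=
  ⟨fun a b => Over.OverMorphism.ext ((cancel_mono (S.fromSpecResidueField (genericPoint S))).mp
    ((Over.w a).trans (Over.w b).symm))⟩

omit [IsIntegral S] in
theorem exists_lift_fromSpecResidueField {K : Type u} [Field K] (z : Spec (CommRingCat.of K) ⟶ S) (s : S)
    (hs : z (IsLocalRing.closedPoint K) = s) :
    ∃ d, d ≫ S.fromSpecResidueField s = z := by
  subst hs
  exact ⟨_, Scheme.descResidueField_stalkClosedPointTo_fromSpecResidueField _ _ z⟩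

variable {R : CommRingCat.{u}} [IsDomain R] (g : Spec R ⟶ S)

theorem map_bot [Flat g] [LocallyOfFinitePresentation g] : g (⟨⊥, Ideal.isPrime_bot⟩ : PrimeSpectrum R) = genericPoint S := by
  obtain ⟨w, hw⟩ : genericPoint S ∈ Set.range g :=
    (genericPoint_spec S).mem_open_set_iff g.isOpenMap.isOpen_range |>.mpr
      ⟨g (⟨⊥, Ideal.isPrime_bot⟩ : PrimeSpectrum R), trivial, ⟨_, rfl⟩⟩
  refine (((genericPoint_spec S).specializes trivial).antisymm ?_).eq.symm
  rw [← hw]
  exact Specializes.map ((PrimeSpectrum.le_iff_specializes _ w).mp bot_le) g.continuous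

theorem eq_bot_of_map [Etale g] (w : Spec R) (hw : g w = genericPoint S) :
    w = (⟨⊥, Ideal.isPrime_bot⟩ : PrimeSpectrum R) := by
  haveI : LocallyQuasiFinite g := Groth.Agent.H7Weight.locallyQuasiFinite_of_etale g
  exact (H05EGA4.eq_of_specializes_of_fibre g ((PrimeSpectrum.le_iff_specializes _ w).mp bot_le)
    ((map_bot g).trans hw.symm)).symm

/-- points with values in algebras in which non-zero elements are invertible lie over the generic point -/
theorem exists_toGen [Flat g] [LocallyOfFinitePresentation g] {B : Type u} [CommRing B] (β : R →+* B)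
    (hβ : ∀ r, r ≠ 0 → IsUnit (β r)) :
    Nonempty (Over.mk (Spec.map (CommRingCat.ofHom β) ≫ g) ⟶ gen S) := by
  let K := FractionRing R
  let β' : K →+* B := IsLocalization.lift (M := nonZeroDivisors R) (g := β) fun r => hβ _ (nonZeroDivisors.coe_ne_zero r)
  let z := Spec.map (CommRingCat.ofHom (algebraMap R K)) ≫ g
  obtain ⟨d, hd⟩ := exists_lift_fromSpecResidueField z (genericPoint S) (by
    rw [Scheme.Hom.comp_apply, ← map_bot g]
    congr 1
    refine PrimeSpectrum.ext ?_
    change Ideal.comap (algebraMap R K) (IsLocalRing.maximalIdeal K) = ⊥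
    rw [IsLocalRing.maximalIdeal_eq_bot, ← RingHom.ker_eq_comap_bot]
    exact (RingHom.injective_iff_ker_eq_bot _).mp (IsFractionRing.injective R K))
  refine ⟨Over.homMk (Spec.map (CommRingCat.ofHom β') ≫ d) ?_⟩
  rw [Category.assoc, show d ≫ (gen S).hom = z from hd]
  change Spec.map _ ≫ Spec.map _ ≫ g = _
  rw [← Spec.map_comp_assoc, ← CommRingCat.ofHom_comp, IsLocalization.lift_comp]
  rfl

/-- A morphism to `Spec A` landing over the generic point factors through the localisation. -/
theorem exists_factor_localization [Etale g] {A : CommRingCat.{u}} (ρ : R ⟶ A) {P : Scheme.{u}} (f : P ⟶ Spec A)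
    (hf : ∀ z, g (Spec.map ρ (f z)) = genericPoint S) :
    ∃ k : P ⟶ Spec (CommRingCat.of (Localization ((nonZeroDivisors R).map ρ.hom))),
      k ≫ Spec.map (CommRingCat.ofHom (algebraMap A (Localization ((nonZeroDivisors R).map ρ.hom)))) = f := by
  let θ : A ⟶ Γ(P, ⊤) := (Scheme.ΓSpecIso A).inv ≫ f.appTop
  have hθ : P.toSpecΓ ≫ Spec.map θ = f := by
    rw [Spec.map_comp, ← Category.assoc, ← Scheme.toSpecΓ_naturality, Category.assoc,
      toSpecΓ_SpecMap_ΓSpecIso_inv, Category.comp_id]
  have hu : ∀ a : (nonZeroDivisors R).map ρ.hom, IsUnit (θ.hom a) := by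
    rintro ⟨_, r, hr, rfl⟩
    refine RingedSpace.isUnit_of_isUnit_germ _ ⊤ _ fun z hz => ?_
    have hz' : z ∈ P.basicOpen (θ.hom (ρ.hom r)) := by
      rw [← Scheme.toSpecΓ_preimage_basicOpen]
      change ρ.hom r ∉ (Spec.map θ (P.toSpecΓ z)).asIdeal
      rw [← Scheme.Hom.comp_apply, hθ]
      intro hmem
      have := congrArg PrimeSpectrum.asIdeal (eq_bot_of_map g _ (hf z))
      have h2 : r ∈ (Spec.map ρ (f z)).asIdeal := hmem
      rw [this] at h2
      exact nonZeroDivisors.ne_zero hr (Ideal.mem_bot.mp h2)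
    exact (Scheme.mem_basicOpen_top _ (θ.hom (ρ.hom r)) z).mp hz'
  refine ⟨P.toSpecΓ ≫ Spec.map (CommRingCat.ofHom (IsLocalization.lift (g := θ.hom) hu)), ?_⟩
  rw [Category.assoc, ← Spec.map_comp, ← CommRingCat.ofHom_comp, IsLocalization.lift_comp]
  exact hθ

end Groth.Agent.H21NormExt
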